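import Groth.Agent.BT96.Rank
import Groth.Agent.GrpQ80.FlatStab
import Groth.Prelude.Def_BT

/-! The transition maps of an `ℓ`-divisible group: kernel, degree. -/

set_option autoImplicit false
set_option backward.isDefEq.respectTransparency.types false
universe u

open CategoryTheory MonoidalCategory CartesianMonoidalCategory MonObj AlgebraicGeometry
open CategoryTheory.Limits (pullback)

namespace Groth.Agent.BT96

variable {S : Scheme.{u}} {ℓ h : ℕ} (G : BTGrp.ProBT ℓ S h)

theorem mono_of_kernel {N H Q : Over S} [GrpObj Q] {i : N ⟶ H} {q : H ⟶ Q}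
    (hk : AlgGrp.IsKernel i q) : Mono i :=
  ⟨fun a b e => IsPullback.hom_ext hk e (toUnit_unique _ _)⟩

theorem isIso_zero : IsIso (G.G 0).hom := by
  obtain ⟨⟨hf, hl, hp⟩, hd⟩ := G.finLocFree 0
  rw [Scheme.Hom.isIso_iff_finrank_eq]
  funext s
  simpa using hd s

theorem hom_zero_unique {T : Over S} (a b : T ⟶ G.G 0) : a = b := by
  have := isIso_zero G
  ext : 1
  exact (cancel_mono (G.G 0).hom).1 ((Over.w a).trans (Over.w b).symm)

theorem pow_one_eq : (𝟙 (G.G 1)) ^ ℓ = (1 : G.G 1 ⟶ G.G 1) := by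
  have := mono_of_kernel (G.isKernel 1)
  have h := (G.isKernel 1).w
  rw [pow_one, MonObj.comp_pow, Category.comp_id, ← Hom.one_def] at h
  rw [← cancel_mono (G.incl 1), MonObj.pow_comp, Category.id_comp, MonObj.one_comp]
  exact h

section chain

variable (i : (t : ℕ) → (G.G 1 ⟶ G.G (t + 1))) (hi0 : i 0 = 𝟙 (G.G 1))
  (hi : ∀ t : ℕ, i (t + 1) = i t ≫ G.incl (t + 1))

include hi0 hi

theorem mono_i (t : ℕ) : Mono (i t) := by
  induction t with
  | zero => rw [hi0]; infer_instance
  | succ t ih =>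
    have := mono_of_kernel (G.isKernel (t + 1))
    rw [hi t]
    exact mono_comp _ _

theorem i_pow (t : ℕ) : i t ^ ℓ = 1 := by
  induction t with
  | zero => rw [hi0]; exact pow_one_eq G
  | succ t ih => rw [hi t, ← MonObj.pow_comp, ih, MonObj.one_comp]

theorem exists_factor (t : ℕ) {T : Over S} (x : T ⟶ G.G (t + 1)) (hx : x ^ ℓ = 1) :
    ∃ y : T ⟶ G.G 1, y ≫ i t = x := by
  induction t with
  | zero => exact ⟨x, by rw [hi0, Category.comp_id]⟩
  | succ t ih =>
    have hk := G.isKernel (t + 1)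
    have hpow : x ^ (ℓ ^ (t + 1)) = 1 := by rw [pow_succ', pow_mul, hx, one_pow]
    have e : x ≫ (𝟙 (G.G (t + 1 + 1))) ^ (ℓ ^ (t + 1)) = toUnit T ≫ η[G.G (t + 1 + 1)] := by
      rw [MonObj.comp_pow, Category.comp_id, hpow, Hom.one_def]
    have hx' : hk.lift x (toUnit T) e ≫ G.incl (t + 1) = x := hk.lift_fst _ _ _
    have := mono_of_kernel hk
    obtain ⟨y, hy⟩ := ih (hk.lift x (toUnit T) e) (by
      rw [← cancel_mono (G.incl (t + 1)), MonObj.pow_comp, hx', hx, MonObj.one_comp])
    exact ⟨y, by rw [hi t, reassoc_of% hy, hx']⟩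

theorem i_proj (t : ℕ) : i t ≫ G.proj t = 1 := by
  cases t with
  | zero => exact hom_zero_unique G _ _
  | succ t =>
    rw [hi t, Category.assoc, G.incl_proj, MonObj.comp_pow, Category.comp_id, i_pow G i hi0 hi]

theorem isKernel_proj (t : ℕ) : AlgGrp.IsKernel (i t) (G.proj t) := by
  have := mono_i G i hi0 hi t
  refine ⟨⟨by rw [i_proj G i hi0 hi, Hom.one_def]⟩, ⟨?_⟩⟩
  have key : ∀ c : Limits.PullbackCone (G.proj t) η[G.G t], c.fst ^ ℓ = 1 := by
    intro c
    have h := c.condition =≫ G.incl t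
    rw [Category.assoc, G.proj_incl, MonObj.comp_pow, Category.comp_id,
      toUnit_unique c.snd (toUnit _), ← Hom.one_def, MonObj.one_comp] at h
    exact h
  exact Limits.PullbackCone.IsLimit.mk _ (fun c => (exists_factor G i hi0 hi t c.fst (key c)).choose)
    (fun c => (exists_factor G i hi0 hi t c.fst (key c)).choose_spec) (fun c => toUnit_unique _ _)
    (fun c m h1 _ => by rw [← cancel_mono (i t), (exists_factor G i hi0 hi t c.fst (key c)).choose_spec, h1])

theorem finLocFree_proj (hℓ : 0 < ℓ) (t : ℕ) :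
    Mor2.IsFinLocFreeOfDeg (ℓ ^ h) (G.proj t).left ∧ Surjective (G.proj t).left := by
  obtain ⟨⟨hf', hl', hp'⟩, hd'⟩ := G.finLocFree (t + 1)
  obtain ⟨⟨hf, hl, hp⟩, hd⟩ := G.finLocFree t
  obtain ⟨⟨hf1, hl1, hp1⟩, hd1⟩ := G.finLocFree 1
  have hk := isKernel_proj G i hi0 hi t
  have hk' : IsPullback (i t) (toUnit (G.G 1)) (G.proj t) η[G.G t] := hk
  have hK : Flat (pullback (G.proj t) η[G.G t]).hom := by
    rw [← Over.w hk'.isoPullback.inv]
    infer_instance
  obtain ⟨Q, _, p, q, hp_hom, hq_hom, hpq, hps, hpl, hpf, hqm, hQf, -⟩ :=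
    GrpQ80.exists_quotient_kernel (G.G (t + 1)) (G.G t) (G.proj t) hK
  have hQflat : Flat Q.hom := by
    have : Flat (p.left ≫ Q.hom) := by rw [Over.w]; exact hl'
    exact FlatMor66.flat_of_comp_surjective p.left Q.hom
  have hQsep : IsSeparated Q.hom := by rw [← Over.w q]; infer_instance
  have hQuc : UniversallyClosed Q.hom := by
    have : UniversallyClosed (p.left ≫ Q.hom) := by rw [Over.w]; infer_instance
    exact UniversallyClosed.of_comp_surjective p.left Q.hom
  have hQp : IsProper Q.hom := { }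
  have hqp : IsProper q.left := by
    have : IsProper (q.left ≫ (G.G t).hom) := by rw [Over.w]; exact hQp
    exact IsProper.of_comp q.left (G.G t).hom
  have hqc : IsClosedImmersion q.left :=
    (IsClosedImmersion.iff_isProper_and_mono q.left).2 ⟨hqp, inferInstance⟩
  have hQfin : IsFinite Q.hom := by rw [← Over.w q]; infer_instance
  have hpfin : IsFinite p.left := by
    have : IsFinite (p.left ≫ Q.hom) := by rw [Over.w]; exact hf'
    exact IsFinite.of_comp p.left Q.hom
  -- degree of `p`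
  have hkp : IsPullback (i t) (toUnit (G.G 1)) p η[Q] := by
    have hone : η[Q] ≫ q = η[G.G t] := IsMonHom.one_hom q
    refine ⟨⟨?_⟩, ⟨Limits.PullbackCone.IsLimit.mk _ (fun c => hk'.lift c.fst c.snd ?_)
      (fun c => hk'.lift_fst _ _ _) (fun c => hk'.lift_snd _ _ _)
      (fun c m h1 h2 => hk'.hom_ext (by rw [hk'.lift_fst]; exact h1) (by rw [hk'.lift_snd]; exact h2))⟩⟩
    · rw [← cancel_mono q, Category.assoc, hpq, Category.assoc, hone, hk'.w]
    · rw [← hpq, ← Category.assoc, c.condition, Category.assoc, hone]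
  have sq := AlgGrp79.isPullback_left (GrpQ80.isPullback_of_kernel p (i t) hkp)
  have hdeg : ∀ y, p.left.finrank y = ℓ ^ h := by
    intro y
    obtain ⟨x, rfl⟩ := p.left.surjective y
    rw [← Scheme.Hom.finrank_of_isPullback _ _ p.left p.left sq.flip x]
    show Scheme.Hom.finrank (pullback.fst (G.G (t + 1)).hom (G.G 1).hom) x = _
    rw [Scheme.Hom.finrank_pullback_fst, hd1, Nat.one_mul]
  have hQd : ∀ s, Q.hom.finrank s = ℓ ^ (t * h) := by
    intro s
    have := finrank_comp p.left Q.hom (ℓ ^ h) hdeg s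
    rw [Over.w, hd'] at this
    refine Nat.eq_of_mul_eq_mul_left (pow_pos hℓ h) ?_
    rw [← this, ← pow_add]; ring_nf
  have hiso : IsIso q.left := by
    have : Flat (q.left ≫ (G.G t).hom) := by rw [Over.w]; exact hQflat
    have : LocallyOfFinitePresentation (q.left ≫ (G.G t).hom) := by rw [Over.w]; exact hQf
    refine isIso_of_isClosedImmersion q.left (G.G t).hom fun s => ?_
    rw [hd s]
    simp only [Over.w]
    exact hQd s
  have e : (G.proj t).left = p.left ≫ q.left := by rw [← hpq]; rfl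
  rw [e]
  refine ⟨⟨⟨inferInstance, inferInstance, inferInstance⟩, fun y => ?_⟩, inferInstance⟩
  have hsq : IsPullback (𝟙 _) p.left (p.left ≫ q.left) q.left :=
    IsPullback.of_horiz_isIso ⟨by simp⟩
  obtain ⟨z, rfl⟩ := q.left.surjective y
  rw [← Scheme.Hom.finrank_of_isPullback _ _ (p.left ≫ q.left) q.left hsq z, hdeg]

end chain

end Groth.Agent.BT96
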