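import Mathlib

/-! Ranks of composites of finite locally free morphisms. -/

set_option autoImplicit false
universe u

open CategoryTheory CategoryTheory.Limits AlgebraicGeometry TensorProduct

namespace Groth.Agent.BT96

theorem finrank_alg (K A B : Type u) [Field K] [CommRing A] [Algebra K A] [Module.Finite K A]
    [CommRing B] [Algebra A B] [Algebra K B] [IsScalarTower K A B] [Module.Finite A B]
    [Module.Flat A B] (d : ℕ) (hd : ∀ p : PrimeSpectrum A, Module.rankAtStalk (R := A) B p = d) :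
    Module.finrank K B = d * Module.finrank K A := by
  cases subsingleton_or_nontrivial A with
  | inl h =>
    have : Subsingleton B := Module.subsingleton A B
    rw [Module.finrank_zero_of_subsingleton, Module.finrank_zero_of_subsingleton, mul_zero]
  | inr h =>
    have : IsArtinianRing A := IsArtinianRing.of_finite K A
    have : Finite (MaximalSpectrum A) := inferInstance
    have hfree : Module.Free A B := Module.free_of_flat_of_finrank_eq A B d fun P => by
      letI : Field (A ⧸ P.1) := Ideal.Quotient.field P.1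
      have h1 := Module.rankAtStalk_baseChange (R := A) (M := B) (S := A ⧸ P.1) ⟨⊥, Ideal.isPrime_bot⟩
      rw [hd, Module.rankAtStalk_eq_finrank_of_free] at h1
      exact h1
    obtain ⟨p⟩ := (inferInstance : Nonempty (PrimeSpectrum A))
    have hr : Module.finrank A B = d := by
      rw [← hd p, Module.rankAtStalk_eq_finrank_of_free]; rfl
    rw [← Module.finrank_mul_finrank K A B, hr, mul_comm]

/-- Multiplicativity of the rank over a field. -/
theorem finrank_comp_field (K : Type u) [Field K] {X Y : Scheme.{u}} (f : X ⟶ Y)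
    (g : Y ⟶ Spec (CommRingCat.of K)) [Flat f] [IsFinite f] [Flat g] [IsFinite g] (d : ℕ)
    (hd : ∀ y : Y, f.finrank y = d) (s : Spec (CommRingCat.of K)) :
    (f ≫ g).finrank s = d * g.finrank s := by
  have : IsAffine Y := isAffine_of_isAffineHom g
  have : IsAffine X := isAffine_of_isAffineHom f
  obtain ⟨φ, hφ⟩ := Spec.map_surjective (Y.isoSpec.inv ≫ g)
  obtain ⟨ψ, hψ⟩ := Spec.map_surjective (X.isoSpec.inv ≫ f ≫ Y.isoSpec.hom)
  have hψd : ∀ p, (Spec.map ψ).finrank p = d := fun p => by
    rw [hψ, Scheme.Hom.finrank_comp_left_of_isIso]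
    have hsq : IsPullback (𝟙 X) (f ≫ Y.isoSpec.hom) f Y.isoSpec.inv :=
      IsPullback.of_horiz_isIso ⟨by simp⟩
    rw [Scheme.Hom.finrank_of_isPullback _ _ f Y.isoSpec.inv hsq p]
    exact hd _
  have h1 : (f ≫ g).finrank s = (Spec.map ψ ≫ Spec.map φ).finrank s := by
    rw [hψ, hφ, ← Scheme.Hom.finrank_comp_left_of_isIso X.isoSpec.inv (f ≫ g)]
    simp
  have h2 : g.finrank s = (Spec.map φ).finrank s := by
    rw [hφ, Scheme.Hom.finrank_comp_left_of_isIso]
  have : IsFinite (Spec.map φ) := by rw [hφ]; infer_instance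
  have : Flat (Spec.map φ) := by rw [hφ]; infer_instance
  have : IsFinite (Spec.map ψ) := by rw [hψ]; infer_instance
  have : Flat (Spec.map ψ) := by rw [hψ]; infer_instance
  have hφf := (IsFinite.SpecMap_iff _).1 ‹IsFinite (Spec.map φ)›
  have hψf := (IsFinite.SpecMap_iff _).1 ‹IsFinite (Spec.map ψ)›
  have hψl := Flat.SpecMap_iff.1 ‹Flat (Spec.map ψ)›
  algebraize [φ.hom, ψ.hom, ψ.hom.comp φ.hom]
  have : Module.Finite K Γ(X, ⊤) := Module.Finite.trans Γ(Y, ⊤) _
  rw [h1, h2, ← Spec.map_comp]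
  rw [show φ = CommRingCat.ofHom (algebraMap K Γ(Y, ⊤)) from rfl,
    show ψ = CommRingCat.ofHom (algebraMap Γ(Y, ⊤) Γ(X, ⊤)) from rfl, ← CommRingCat.ofHom_comp,
    ← IsScalarTower.algebraMap_eq]
  erw [Scheme.Hom.finrank_SpecMap_algebraMap K Γ(X, ⊤), Scheme.Hom.finrank_SpecMap_algebraMap K Γ(Y, ⊤)]
  rw [Module.rankAtStalk_eq_finrank_of_free, Module.rankAtStalk_eq_finrank_of_free]
  refine finrank_alg K Γ(Y, ⊤) Γ(X, ⊤) d fun p => ?_
  rw [← hψd p]
  exact (Scheme.Hom.finrank_SpecMap_algebraMap Γ(Y, ⊤) Γ(X, ⊤) p).symm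

/-- Multiplicativity of the rank, for a first morphism of constant rank. -/
theorem finrank_comp {X Y S : Scheme.{u}} (f : X ⟶ Y) (g : Y ⟶ S) [Flat f] [IsFinite f] [Flat g]
    [IsFinite g] (d : ℕ) (hd : ∀ y : Y, f.finrank y = d) (s : S) :
    (f ≫ g).finrank s = d * g.finrank s := by
  let i := S.fromSpecResidueField s
  obtain ⟨z⟩ : Nonempty (Spec (S.residueField s)) := inferInstance
  have hz : i z = s := Scheme.fromSpecResidueField_apply s z
  let p := pullback.fst g i
  have hbig : IsPullback (pullback.fst f p) (pullback.snd f p ≫ pullback.snd g i) (f ≫ g) i :=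
    (IsPullback.of_hasPullback f p).paste_vert (IsPullback.of_hasPullback g i)
  rw [← hz, ← Scheme.Hom.finrank_of_isPullback _ _ (f ≫ g) i hbig z,
    ← Scheme.Hom.finrank_pullback_snd g i z]
  exact finrank_comp_field (S.residueField s) _ _ d
    (fun y => (Scheme.Hom.finrank_pullback_snd f p y).trans (hd _)) z

theorem isPullback_fromSpec {X Y : Scheme.{u}} (p : X ⟶ Y) {V : Y.Opens} (hV : IsAffineOpen V)
    (hU : IsAffineOpen (p ⁻¹ᵁ V)) :
    IsPullback hU.fromSpec (Spec.map (p.app V)) p hV.fromSpec := by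
  refine (isPullback_morphismRestrict p V).flip.of_iso hU.isoSpec (Iso.refl _) hV.isoSpec (Iso.refl _)
    ?_ ?_ (by simp) ?_
  · rw [Iso.refl_hom, Category.comp_id, IsAffineOpen.isoSpec_hom_fromSpec]
  · rw [← cancel_mono hV.fromSpec, Category.assoc, Category.assoc, IsAffineOpen.isoSpec_hom_fromSpec,
      Scheme.Hom.app_eq_appLE, IsAffineOpen.SpecMap_appLE_fromSpec p hV hU,
      IsAffineOpen.isoSpec_hom_fromSpec_assoc, morphismRestrict_ι]
  · rw [Iso.refl_hom, Category.comp_id, IsAffineOpen.isoSpec_hom_fromSpec]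

/-- A closed immersion between finite locally free schemes of the same rank is an isomorphism. -/
theorem isIso_of_isClosedImmersion {X Y S : Scheme.{u}} (i : X ⟶ Y) [IsClosedImmersion i]
    (g : Y ⟶ S) [IsFinite g] [Flat g] [LocallyOfFinitePresentation g] [Flat (i ≫ g)]
    [LocallyOfFinitePresentation (i ≫ g)] (h : ∀ s, (i ≫ g).finrank s = g.finrank s) : IsIso i := by
  have key : ∀ (R A B : CommRingCat.{u}) (φ : R ⟶ A) (ψ : A ⟶ B), Function.Surjective ψ →
      IsFinite (Spec.map φ) → Flat (Spec.map φ) → LocallyOfFinitePresentation (Spec.map φ) →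
      Flat (Spec.map (φ ≫ ψ)) → LocallyOfFinitePresentation (Spec.map (φ ≫ ψ)) →
      (∀ p, (Spec.map (φ ≫ ψ)).finrank p = (Spec.map φ).finrank p) → IsIso ψ := by
    intro R A B φ ψ hψ h1 h2 h3 h4 h5 hr
    have hf := (IsFinite.SpecMap_iff _).1 h1
    have hl := Flat.SpecMap_iff.1 h2
    have hp := (HasRingHomProperty.Spec_iff (P := @LocallyOfFinitePresentation)).1 h3
    have hl' := Flat.SpecMap_iff.1 h4
    have hp' := (HasRingHomProperty.Spec_iff (P := @LocallyOfFinitePresentation)).1 h5
    algebraize [φ.hom, ψ.hom, ψ.hom.comp φ.hom]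
    have hf' : Module.Finite R B :=
      Module.Finite.of_surjective (IsScalarTower.toAlgHom R A B).toLinearMap hψ
    have : Algebra.FinitePresentation R B := hp'
    have : Module.Flat R B := hl'
    have : Module.FinitePresentation R B :=
      Module.FinitePresentation.of_finite_of_finitePresentation R B
    have : Module.FinitePresentation R A :=
      Module.FinitePresentation.of_finite_of_finitePresentation R A
    have : Module.Projective R B := Module.Flat.projective_of_finitePresentation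
    let π := (IsScalarTower.toAlgHom R A B).toLinearMap
    obtain ⟨σ, hσ⟩ := Module.projective_lifting_property π LinearMap.id hψ
    have hfk : Module.Finite R (LinearMap.ker π) :=
      Module.Finite.iff_fg.2 (Module.FinitePresentation.fg_ker π hψ)
    let e : A ≃ₗ[R] LinearMap.ker π × B :=
      ((LinearMap.exact_subtype_ker_map π).splitSurjectiveEquiv Subtype.val_injective ⟨σ, hσ⟩).1
    have : Module.Flat R (LinearMap.ker π) :=
      Module.Flat.of_retract (e.symm.toLinearMap ∘ₗ LinearMap.inl R _ _)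
        (LinearMap.fst R _ _ ∘ₗ e.toLinearMap) (LinearMap.ext fun x => by simp)
    have hz : Subsingleton (LinearMap.ker π) := by
      rw [← Module.rankAtStalk_eq_zero_iff_subsingleton (R := R)]
      funext p
      have h1 := hr p
      rw [show φ ≫ ψ = CommRingCat.ofHom (algebraMap R B) from rfl,
        show φ = CommRingCat.ofHom (algebraMap R A) from rfl] at h1
      rw [Scheme.Hom.finrank_SpecMap_algebraMap, Scheme.Hom.finrank_SpecMap_algebraMap,
        Module.rankAtStalk_eq_of_equiv e, Module.rankAtStalk_prod] at h1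
      simp only [Pi.add_apply] at h1
      simp only [Pi.zero_apply]
      omega
    rw [ConcreteCategory.isIso_iff_bijective]
    refine ⟨?_, hψ⟩
    rw [injective_iff_map_eq_zero]
    intro a ha
    exact congrArg Subtype.val (Subsingleton.elim (α := LinearMap.ker π) ⟨a, ha⟩ 0)
  refine (IsZariskiLocalAtTarget.iff_of_iSup_eq_top (P := MorphismProperty.isomorphisms Scheme)
    (fun U : S.affineOpens => g ⁻¹ᵁ U.1) ?_).mpr fun U => ?_
  · exact top_le_iff.1 fun y _ => by
      obtain ⟨V, hV, hy, -⟩ := exists_isAffineOpen_mem_and_subset (X := S) (x := g y) (U := ⊤) trivial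
      exact TopologicalSpace.Opens.mem_iSup.2 ⟨⟨V, hV⟩, hy⟩
  show IsIso (i ∣_ g ⁻¹ᵁ U.1)
  have hA := U.2.preimage g
  rw [isIso_morphismRestrict_iff_isIso_app i hA]
  have hle : g ⁻¹ᵁ U.1 ≤ g ⁻¹ᵁ U.1 := le_rfl
  have hB : IsAffineOpen (i ⁻¹ᵁ (g ⁻¹ᵁ U.1)) := hA.preimage i
  have sq1 := isPullback_fromSpec g U.2 (U.2.preimage g)
  have hB' : IsAffineOpen ((i ≫ g) ⁻¹ᵁ U.1) := hB
  have sq2 : IsPullback hB.fromSpec (Spec.map (g.app U.1 ≫ i.app (g ⁻¹ᵁ U.1))) (i ≫ g) U.2.fromSpec := by
    rw [← Scheme.Hom.comp_app]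
    exact isPullback_fromSpec (i ≫ g) U.2 hB'
  refine key _ _ _ (g.app U.1) (i.app (g ⁻¹ᵁ U.1)) (i.app_surjective _ hA) ?_ ?_ ?_ ?_ ?_ fun p => ?_
  · exact MorphismProperty.of_isPullback sq1 ‹IsFinite g›
  · exact MorphismProperty.of_isPullback sq1 ‹Flat g›
  · exact MorphismProperty.of_isPullback sq1 ‹LocallyOfFinitePresentation g›
  · exact MorphismProperty.of_isPullback sq2 ‹Flat (i ≫ g)›
  · exact MorphismProperty.of_isPullback sq2 ‹LocallyOfFinitePresentation (i ≫ g)›
  · rw [Scheme.Hom.finrank_of_isPullback _ _ g _ sq1 p,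
      Scheme.Hom.finrank_of_isPullback _ _ (i ≫ g) _ sq2 p, h]

end Groth.Agent.BT96
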